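import Groth.Agent.H4Easy.Batch25
import Mathlib.RingTheory.Ideal.Quotient.Operations
import Mathlib.RingTheory.Polynomial.Basic

/-!
# Valuation rings above a rank one place of a subfield are bounded by the degree
-/

set_option autoImplicit false
set_option linter.style.haveILetI false

universe u

open Polynomial

namespace Groth.Agent.ValFib

variable {K₀ F : Type u} [Field K₀] [Field F] [Algebra K₀ F] (R₀ : ValuationSubring K₀)

private theorem mul_lt_one' {L : Type u} [Field L] (O : ValuationSubring L) {a b : O.ValueGroup} (ha : a ≤ 1) (hb : b < 1) : a * b < 1 :=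
  lt_of_le_of_lt (mul_le_of_le_one_left zero_le ha) hb

/-- Valuation rings with the same trace on a subfield over which the field is algebraic are incomparable. -/
theorem eq_of_le [Algebra.IsAlgebraic K₀ F] {O O' : ValuationSubring F}
    (h : O.comap (algebraMap K₀ F) = R₀) (h' : O'.comap (algebraMap K₀ F) = R₀) (hle : O ≤ O') :
    O = O' := by
  classical
  refine le_antisymm hle fun x hx => ?_
  by_contra hxO
  have hx0 : x ≠ 0 := fun h0 => hxO (h0 ▸ zero_mem O.toSubring)
  let y := x⁻¹
  have hyO : y ∈ O := (O.mem_or_inv_mem x).resolve_left hxO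
  have hy' : y ∈ O' := hle hyO
  -- a relation for `y` with coefficients in `R₀`, one of which is a unit
  obtain ⟨f, hf0, hf⟩ := Algebra.IsAlgebraic.isAlgebraic (R := K₀) y
  obtain ⟨j₀, hj₀, hmax⟩ := Finset.exists_max_image f.support (fun i => R₀.valuation (f.coeff i))
    (Polynomial.support_nonempty.mpr hf0)
  have hc0 : f.coeff j₀ ≠ 0 := Polynomial.mem_support_iff.mp hj₀
  let a : ℕ → K₀ := fun i => f.coeff i / f.coeff j₀
  have ha : ∀ i, a i ∈ R₀ := fun i => by
    rw [← R₀.valuation_le_one_iff, map_div₀]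
    by_cases hi : i ∈ f.support
    · exact div_le_one_of_le₀ (hmax i hi) zero_le
    · rw [Polynomial.notMem_support_iff.mp hi, map_zero, zero_div]
      exact zero_le
  have hex : ∃ j, R₀.valuation (a j) = 1 := ⟨j₀, by simp [a, hc0]⟩
  let j := Nat.find hex
  have hja : R₀.valuation (a j) = 1 := Nat.find_spec hex
  have hsmall : ∀ i < j, R₀.valuation (a i) < 1 := fun i hi =>
    lt_of_le_of_ne ((R₀.valuation_le_one_iff _).mpr (ha i)) (Nat.find_min hex hi)
  have hjn : j < f.natDegree + 1 := by
    by_contra hcon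
    have : a j = 0 := by simp [a, Polynomial.coeff_eq_zero_of_natDegree_lt (show f.natDegree < j by omega)]
    rw [this, map_zero] at hja
    exact zero_ne_one hja
  -- valuations of coefficients above
  have hvO : ∀ c : K₀, c ∈ R₀ → algebraMap K₀ F c ∈ O := fun c hc => by rw [← h] at hc; exact hc
  have hunit' : O'.valuation y = 1 := by
    refine le_antisymm ((O'.valuation_le_one_iff _).mpr hy') ?_
    have h2 : O'.valuation x ≤ 1 := (O'.valuation_le_one_iff _).mpr hx
    calc (1 : _) = O'.valuation x * O'.valuation y := by rw [← map_mul, mul_inv_cancel₀ hx0, map_one]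
      _ ≤ 1 * O'.valuation y := by exact mul_le_mul_of_nonneg_right h2 zero_le
      _ = _ := one_mul _
  have hlt : O.valuation y < 1 := by
    refine lt_of_le_of_ne ((O.valuation_le_one_iff _).mpr hyO) fun he => hxO ?_
    rw [← O.valuation_le_one_iff, show x = y⁻¹ from (inv_inv x).symm, map_inv₀, he, inv_one]
  have hsmall' : ∀ c : K₀, R₀.valuation c < 1 → O'.valuation (algebraMap K₀ F c) < 1 := by
    intro c hc
    rcases eq_or_ne c 0 with rfl | hc0
    · simp
    by_contra hcon
    rw [not_lt] at hcon
    have hc' : algebraMap K₀ F c⁻¹ ∈ O' := by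
      rw [← O'.valuation_le_one_iff, map_inv₀, map_inv₀]
      exact inv_le_one_of_one_le₀ hcon
    have : c⁻¹ ∈ R₀ := h' ▸ hc'
    rw [← R₀.valuation_le_one_iff, map_inv₀] at this
    exact absurd ((inv_le_one₀ ((Valuation.pos_iff _).mpr hc0)).mp this) (not_le.mpr hc)
  have hone : O.valuation (algebraMap K₀ F (a j)) = 1 := by
    have h1 : a j ≠ 0 := fun h0 => by rw [h0, map_zero] at hja; exact zero_ne_one hja
    have h2 : (a j)⁻¹ ∈ R₀ := by rw [← R₀.valuation_le_one_iff, map_inv₀, hja, inv_one]
    refine le_antisymm ((O.valuation_le_one_iff _).mpr (hvO _ (ha j))) ?_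
    have h3 := (O.valuation_le_one_iff _).mpr (hvO _ h2)
    rwa [map_inv₀, map_inv₀, inv_le_one₀ ((Valuation.pos_iff _).mpr (by simpa using h1))] at h3
  have hsum : ∑ i ∈ Finset.range (f.natDegree + 1), algebraMap K₀ F (a i) * y ^ i = 0 := by
    rw [Polynomial.aeval_eq_sum_range] at hf
    simp only [Algebra.smul_def] at hf
    have : ∀ i, algebraMap K₀ F (a i) * y ^ i = (algebraMap K₀ F (f.coeff j₀))⁻¹ * (algebraMap K₀ F (f.coeff i) * y ^ i) :=
      fun i => by simp only [a, div_eq_mul_inv, map_mul, map_inv₀]; ring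
    simp only [this, ← Finset.mul_sum, hf, mul_zero]
  rw [← Finset.sum_range_add_sum_Ico _ hjn.le, Finset.sum_eq_sum_Ico_succ_bot hjn] at hsum
  -- the part above `j`
  let T := algebraMap K₀ F (a j) + ∑ i ∈ Finset.Ico (j + 1) (f.natDegree + 1), algebraMap K₀ F (a i) * y ^ (i - j)
  have hTO : O.valuation T = 1 := by
    have h4 : O.valuation (∑ i ∈ Finset.Ico (j + 1) (f.natDegree + 1), algebraMap K₀ F (a i) * y ^ (i - j)) < 1 := by
      refine Valuation.map_sum_lt _ one_ne_zero fun i hi => ?_
      rw [Finset.mem_Ico] at hi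
      rw [map_mul, map_pow]
      refine mul_lt_one' _ ((O.valuation_le_one_iff _).mpr (hvO _ (ha i))) ?_
      exact pow_lt_one₀ zero_le hlt (by omega)
    rw [Valuation.map_add_eq_of_lt_left _ (hone.symm ▸ h4), hone]
  have hT' : O'.valuation T = 1 := by
    have hT0 : T ≠ 0 := fun h0 => by rw [h0, map_zero] at hTO; exact zero_ne_one hTO
    have h1 : T ∈ O := (O.valuation_le_one_iff _).mp hTO.le
    have h2 : T⁻¹ ∈ O := (O.valuation_le_one_iff _).mp (by rw [map_inv₀, hTO, inv_one])
    refine le_antisymm ((O'.valuation_le_one_iff _).mpr (hle h1)) ?_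
    have h3 := (O'.valuation_le_one_iff _).mpr (hle h2)
    rwa [map_inv₀, inv_le_one₀ ((Valuation.pos_iff _).mpr hT0)] at h3
  have hTeq : algebraMap K₀ F (a j) * y ^ j + ∑ i ∈ Finset.Ico (j + 1) (f.natDegree + 1), algebraMap K₀ F (a i) * y ^ i
      = y ^ j * T := by
    rw [mul_add, Finset.mul_sum, mul_comm]
    congr 1
    refine Finset.sum_congr rfl fun i hi => ?_
    rw [Finset.mem_Ico] at hi
    rw [mul_left_comm, ← pow_add]
    congr 2
    omega
  rw [hTeq] at hsum
  have h5 : O'.valuation (∑ i ∈ Finset.range j, algebraMap K₀ F (a i) * y ^ i) < 1 := by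
    refine Valuation.map_sum_lt _ one_ne_zero fun i hi => ?_
    rw [map_mul, map_pow, hunit', one_pow, mul_one]
    exact hsmall' _ (hsmall i (Finset.mem_range.mp hi))
  rw [eq_neg_of_add_eq_zero_left hsum, Valuation.map_neg, map_mul, map_pow, hunit', one_pow, one_mul, hT'] at h5
  exact lt_irrefl _ h5

/-- At most `[F : K₀]` valuation rings of `F` lie over a given valuation ring of `K₀`. -/
theorem card_le [FiniteDimensional K₀ F] (s : Finset (ValuationSubring F))
    (hs : ∀ O ∈ s, O.comap (algebraMap K₀ F) = R₀) : s.card ≤ Module.finrank K₀ F := by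
  classical
  rcases s.eq_empty_or_nonempty with rfl | hne
  · simp
  haveI : Nonempty s := ⟨⟨_, hne.choose_spec⟩⟩
  let W : s → ValuationSubring F := fun O => O.1
  let A : Subring F := ⨅ O : s, O.1.toSubring
  have hmem : ∀ x : F, x ∈ (algebraMap A F).range ↔ ∀ i, x ∈ W i := fun x =>
    ⟨fun ⟨z, hz⟩ i => hz ▸ Subring.mem_iInf.mp z.2 i, fun hx => ⟨⟨x, Subring.mem_iInf.mpr hx⟩, rfl⟩⟩
  have hinj : Function.Injective (algebraMap A F) := Subtype.val_injective
  let P : s → Ideal A := fun i => (IsLocalRing.maximalIdeal (W i)).comap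
    ((algebraMap A F).codRestrict (W i).toSubring fun a => (hmem _).mp ⟨a, rfl⟩ i)
  have hP : ∀ i (a : A), a ∈ P i ↔ (W i).valuation (a : F) < 1 := fun i a => (W i).valuation_lt_one_iff _
  have hprime : ∀ i, (P i).IsPrime := fun i =>
    Ideal.IsPrime.comap _ (hK := (IsLocalRing.maximalIdeal.isMaximal _).isPrime)
  have hanti : ∀ i j, P i ≤ P j → i = j := by
    intro i j hij
    refine Subtype.ext (eq_of_le R₀ (hs _ j.2) (hs _ i.2) ?_).symm
    intro x hx
    haveI := hprime j
    obtain ⟨a, b, hb, h | h⟩ := H4Easy.interVal_fraction W hinj hmem x (P j)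
    · have hb' : (W i).valuation (b : F) = 1 := le_antisymm (((W i).valuation_le_one_iff _).mpr ((hmem _).mp ⟨b, rfl⟩ i))
        (not_lt.mp fun hlt => hb (hij ((hP i b).mpr hlt)))
      rw [← (W i).valuation_le_one_iff]
      have h1 := congrArg (W i).valuation h
      rw [map_mul, show algebraMap A F b = (b : F) from rfl, hb', mul_one] at h1
      exact h1 ▸ ((W i).valuation_le_one_iff _).mpr ((hmem _).mp ⟨a, rfl⟩ i)
    · have haj : a ∉ P j := fun ha => hb (by
        rw [hP] at ha ⊢
        have h1 := congrArg (W j).valuation h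
        rw [map_mul] at h1
        show (W j).valuation (algebraMap A F b) < 1
        rw [h1]
        exact mul_lt_one' _ (((W j).valuation_le_one_iff _).mpr hx) ha)
      have ha' : (W i).valuation (a : F) = 1 := le_antisymm (((W i).valuation_le_one_iff _).mpr ((hmem _).mp ⟨a, rfl⟩ i))
        (not_lt.mp fun hlt => haj (hij ((hP i a).mpr hlt)))
      rw [← (W i).valuation_le_one_iff]
      have h1 := congrArg (W i).valuation h
      rw [map_mul, show algebraMap A F a = (a : F) from rfl, ha', mul_one] at h1
      exact h1 ▸ ((W i).valuation_le_one_iff _).mpr ((hmem _).mp ⟨b, rfl⟩ i)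
  have hmax : ∀ i, (P i).IsMaximal := by
    intro i
    obtain ⟨M, hM, hle⟩ := Ideal.exists_le_maximal (P i) (hprime i).ne_top
    obtain ⟨j, hj⟩ := H4Easy.interVal_exists_centre W hinj hmem hM.isPrime
    have hMj : M ≤ P j := fun a ha => (hP j a).mpr (hj a ha)
    obtain rfl := hanti i j (hle.trans hMj)
    rw [le_antisymm hle hMj]
    exact hM
  have hcop : Pairwise fun i j => IsCoprime (P i) (P j) := fun i j hij =>
    Ideal.isCoprime_iff_sup_eq.mpr ((hmax i).coprime_of_ne (hmax j) fun h => hij (hanti i j h.le))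
  have hlift : ∀ i : s, ∃ e : A, ∀ j, e - (if i = j then 1 else 0) ∈ P j := fun i =>
    Ideal.exists_forall_sub_mem_ideal hcop _
  choose e he using hlift
  have hli : LinearIndependent K₀ (fun i : s => (e i : F)) := by
    rw [Fintype.linearIndependent_iff]
    intro c hc
    by_contra hcon
    push Not at hcon
    obtain ⟨i₀, hi₀⟩ := hcon
    obtain ⟨j, -, hjmax⟩ := Finset.exists_max_image Finset.univ (fun i => R₀.valuation (c i)) ⟨i₀, Finset.mem_univ _⟩
    have hcj : c j ≠ 0 := fun h0 => by
      have := hjmax i₀ (Finset.mem_univ _)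
      rw [h0, map_zero, le_zero_iff, map_eq_zero] at this
      exact hi₀ this
    let b : s → K₀ := fun i => c i / c j
    have hb : ∀ i, algebraMap K₀ F (b i) ∈ W j := fun i => by
      have : b i ∈ R₀ := by
        rw [← R₀.valuation_le_one_iff, map_div₀]
        exact div_le_one_of_le₀ (hjmax i (Finset.mem_univ _)) zero_le
      rw [← hs _ j.2] at this
      exact this
    have hsum : ∑ i, algebraMap K₀ F (b i) * (e i : F) = 0 := by
      have : ∀ i, algebraMap K₀ F (b i) * (e i : F) = (algebraMap K₀ F (c j))⁻¹ * (c i • (e i : F)) := fun i => by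
        simp only [b, map_div₀, Algebra.smul_def]; ring
      simp only [this, ← Finset.mul_sum, hc, mul_zero]
    rw [← Finset.add_sum_erase _ _ (Finset.mem_univ j)] at hsum
    have hbj : algebraMap K₀ F (b j) = 1 := by simp [b, hcj]
    rw [hbj, one_mul] at hsum
    have h1 : (W j).valuation (∑ i ∈ Finset.univ.erase j, algebraMap K₀ F (b i) * (e i : F)) < 1 := by
      refine Valuation.map_sum_lt _ one_ne_zero fun i hi => ?_
      rw [map_mul]
      refine mul_lt_one' _ (((W j).valuation_le_one_iff _).mpr (hb i)) ?_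
      have := (hP j _).mp (he i j)
      simpa [(Finset.ne_of_mem_erase hi)] using this
    have h2 : (W j).valuation (e j : F) = 1 := by
      have h3 := (hP j _).mp (he j j)
      rw [if_pos rfl] at h3
      have : (W j).valuation ((e j : F) - 1) < 1 := by simpa using h3
      rw [show (e j : F) = 1 + ((e j : F) - 1) by ring, Valuation.map_add_eq_of_lt_left _ (by rwa [map_one]), map_one]
    rw [eq_neg_of_add_eq_zero_right hsum, Valuation.map_neg, h2] at h1
    exact lt_irrefl _ h1
  simpa using hli.fintype_card_le_finrank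

end Groth.Agent.ValFib
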